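import Cfsg.Agent.J4Rep94.C21.Data

/-!
# Certificate data
-/

set_option autoImplicit false
set_option maxRecDepth 100000

namespace Cfsg.Agent.J4Rep94.C21

open Cfsg.Agent.CosetEnum

def fv0 : ℕ := 0x79000010007600105000020003d00006000ee000010007400103000020006a00005000f0000010007200101000020007600006000ea0000100070000ff000020007500005000e8000010006e000fd000020007400007000e6000010006c000fb000020007300005000e4000010006a000f9000020007200006000e20000100068000f7000020007100005000e0000ed000f40000300066000010003300004000ec000de000dc000da000d8000d6000f20002d0002f000090006400062000600005e0005c0005a00058000560005400052000500004e0004c0004a00048000460004400042000400003e0003c0003a00038000360003400032000300001b0001800003000d4000010002a000010001500002000ef0007800002000ea000e8000e6000e4000e2000e0000de000dc000da000d8000d6000d400028000260002400022000200001e0001c0001a00018000160001400012000100000e0000c0000a00008000060000400002000000002100000000010007800001000d2000d0000ce000cc000ca000c8000c6000c4000c2000c0000be000bc000ba000b8000b6000b4000b2000b0000ae000ac000aa000a8000a6000a4000a2000a00009e0009c0009a00098000960009400092000900008e0008c0008a00088000860008400082000800007e0007c0007a000100000e0000c0000a0000800006000040000200000000360000000000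
theorem fok0 : sys.checkFacts 119 13 fv0 = true := by decide +kernel


end Cfsg.Agent.J4Rep94.C21
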